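set_option autoImplicit false
namespace Cfsg.Agent.Lib.Helper6.TCD.Y422P
noncomputable def NC (i : Nat) : Nat := Nat.land (Nat.shiftRight 0x10001bc00000000000000030006e0000000000000000c001b400000000000000020006c00000000000000004001ac00000000000000000006a0000000000000001c001a40000000000000000000690000000000000000c001a00000000000000002000660000000000000000800194000000000000000100064000000000000000000018c0000000000000007000620000000000000000400188000000000000000200060000000000000000080017c00000000000000010005e000000000000000040017400000000000000000005c0000000000000001c0016c00000000000000020005b0000000000000000800164000000000000000100058000000000000000040015c00000000000000000005600000000000000000001540000000000000007000540000000000000000c001500000000000000001000520000000000000000400144000000000000000000050000000000000000000013c00000000000000070004e0000000000000001c0013400000000000000060004d000000000000000040012800000000000000000004900000000000000000001200000000000000007000470000000000000001c001180000000000000006000460000000000000001000118000000000000000000044000000000000000040010c0000000000000000000420000000000000001c00104000000000000000700040000000000000000180010000000000000000050004000000000000000000000f400000000000000070003c00000000000000000000ec00000000000000070003a00000000000000014000e800000000000000030003a0000000000000001c000e00000000000000000000360000000000000001c000d40000000000000005000350000000000000001c000d00000000000000004000340000000000000001c000c400000000000000050003100000000000000000000bc00000000000000070002e00000000000000010000b80000000000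0000020002e00000000000000014000b400000000000000070002b00000000000000010000ac00000000000000000002a0000000000000001c000a400000000000000030002900000000000000010000a00000000000000007000250000000000000000c0009400000000000000070002400000000000000018000900000000000000003000230000000000000001c000840000000000000007000200000000000000001800080000000000000000100020000000000000000180007800000000000000070001c000000000000000180007000000000000000020001c000000000000000180006800000000000000020001a0000000000000001c0006000000000000000030001800000000000000018000580000000000000003000150000000000000001c000500000000000000004000140000000000000001c0004c0000000000000003000120000000000000001000044000000000000000000011000000000000000000004000000000000000040000e000000000000000040003800000000000000010000d000000000000000100003000000000000000020000c000000000000000080002c00000000000000030000a0000000000000000c00024000000000000000600008000000000000000180001800000000000000050000600000000000000018000140000000000000004000050000000000000000c0001000000000000000020000300000000000000004000080000000000000000000010000000000000001c00000000000000000000000000 (Nat.mul 86 (Nat.land i 511))) 77371252455336267181195263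
end Cfsg.Agent.Lib.Helper6.TCD.Y422P
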