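set_option autoImplicit false
namespace Cfsg.Agent.Lib.Helper6.TCD.Y422P
noncomputable def WI (i : Nat) : Nat := Nat.land (Nat.shiftRight 0x9f924f8927a493c249d924e892724938249b924d8926a49342499924c8926249302497924b8925a492c2495924a892524928249392498924a492424919248892424920248f92478923a491c248d9246892324918248b92458922a491424899244892224910248792438921a490c24859242892124908248392418920a490424819240892024900241f920f8907a483c241d920e890724838241b920d8906a48342419920c8906248302417920b8905a482c2415920a890524828241392098904a482424119208890424820240f92078903a481c240d9206890324818240b92058902a481424099204890224810240792038901a480c24059202890124808240392018900a4804240192008900248002400918008c0244002200908008402400020008f8007c023c001e008e800740238001c008d8006c0234001a008c8006402300018008b8005c022c0016008a800540228001400898004c022400120088800440220001000878003c021c000e0086800340218000c00858002c0214000a00848002402100008000380018000a000400018000800020000 (Nat.mul 17 (Nat.land i 255))) 131071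
end Cfsg.Agent.Lib.Helper6.TCD.Y422P
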