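import Cfsg.Agent.Lib.Helper6.TCD.Y422P.SH
import Cfsg.Agent.Lib.Helper6.TCD.Y422P.SC
import Cfsg.Agent.Lib.Helper6.TCD.Y422P.NH
import Cfsg.Agent.Lib.Helper6.TCD.Y422P.NC
import Cfsg.Agent.Lib.Helper6.TCD.Y422P.WD
import Cfsg.Agent.Lib.Helper6.TCD.Y422P.WI
set_option autoImplicit false
namespace Cfsg.Agent.Lib.Helper6.TCD.Y422P
def n : Nat := 120
def ncol : Nat := 8
def nrw : Nat := 192
def nw : Nat := 199
def tmax : Nat := 960
def INV : Nat := 1985229328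
def N : Nat := 120
end Cfsg.Agent.Lib.Helper6.TCD.Y422P
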